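import Mathlib

/-!
# Weighted cycle count over a `p`-group of permutations

For a `p`-group `P` acting faithfully on a finite set with `r` orbits and `d` points:
`|P| ^ (p-1) * p ^ r ≤ p ^ d`, and for `p ≥ 3`, `a ≥ 3`, `(1+ε)` with `ε = p / ((p-1) 3^(p-1))`,
`(∑ x ∈ P, a ^ cyc x) * (1+ε) ^ r ≤ (a (1+ε)) ^ d`.
-/

set_option autoImplicit false

namespace CfsgLib.Invol.ClassBound

open Equiv Equiv.Perm

/-- Number of cycles (fixed points included). -/
noncomputable def cyc {Ω : Type*} (σ : Perm Ω) : ℕ := Nat.card (Quotient (SameCycle.setoid σ))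

/-- Number of orbits. -/
noncomputable def norb (P Ω : Type*) [Group P] [MulAction P Ω] : ℕ :=
  Nat.card (MulAction.orbitRel.Quotient P Ω)

/-- The growth factor attached to the prime `p`. -/
noncomputable def eps (p : ℕ) : ℝ := (p : ℝ) / (((p : ℝ) - 1) * 3 ^ (p - 1))

theorem eps_nonneg {p : ℕ} (hp : 2 ≤ p) : 0 ≤ eps p := by
  have : (2 : ℝ) ≤ p := by exact_mod_cast hp
  unfold eps
  apply div_nonneg (by positivity)
  exact mul_nonneg (by linarith) (by positivity)

theorem one_add_div_le {p : ℕ} (hp : 2 ≤ p) :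
    1 + (p : ℝ) / 3 ^ (p - 1) ≤ (1 + eps p) ^ (p - 1) := by
  have h2 : (2 : ℝ) ≤ p := by exact_mod_cast hp
  refine le_trans (le_of_eq ?_) (one_add_mul_le_pow (by linarith [eps_nonneg hp]) (p - 1))
  rw [Nat.cast_sub (by omega)]
  unfold eps
  have : (p : ℝ) - 1 ≠ 0 := by linarith
  push_cast
  field_simp

/-- The statement to be proved for an action of a `p`-group. -/
def Bound (p : ℕ) (a : ℝ) (P Ω : Type*) [Group P] [Fintype P] [MulAction P Ω] [Fintype Ω] : Prop :=
  Nat.card P ^ (p - 1) * p ^ norb P Ω ≤ p ^ Fintype.card Ω ∧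
  (3 ≤ p → (∑ x : P, a ^ cyc (MulAction.toPerm x : Perm Ω)) * (1 + eps p) ^ norb P Ω
    ≤ (a * (1 + eps p)) ^ Fintype.card Ω)

theorem cyc_split {Ω β : Type*} [Finite Ω] [Fintype β] (σ : Perm Ω) (f : Ω → β)
    (hf : ∀ x, f (σ x) = f x) :
    cyc σ = ∑ b : β, cyc (σ.subtypePerm (p := fun x => f x = b) (fun x => by simp [hf])) := by
  classical
  have hz : ∀ (i : ℤ) x, f ((σ ^ i) x) = f x := by
    intro i
    induction i using Int.induction_on with
    | zero => simp
    | succ i ih => intro x; rw [zpow_add_one, Perm.mul_apply, ih, hf]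
    | pred i ih =>
      intro x; rw [zpow_sub_one, Perm.mul_apply, ih]
      conv_rhs => rw [← Equiv.apply_symm_apply σ x, hf]
      rfl
  have hinv : ∀ x y, σ.SameCycle x y → f x = f y := by
    rintro x y ⟨i, rfl⟩; exact (hz i x).symm
  let F : (Σ b : β, Quotient (SameCycle.setoid
      (σ.subtypePerm (p := fun x => f x = b) (fun x => by simp [hf])))) →
      Quotient (SameCycle.setoid σ) := fun s =>
    Quotient.liftOn s.2 (fun x => Quotient.mk (SameCycle.setoid σ) (x : Ω))
      (fun x y h => Quotient.sound (sameCycle_subtypePerm.1 h))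
  have hF : Function.Bijective F := by
    constructor
    · rintro ⟨b, q⟩ ⟨b', q'⟩
      induction q using Quotient.inductionOn with
      | h x => induction q' using Quotient.inductionOn with
        | h y =>
          intro h
          have hs : σ.SameCycle (x : Ω) (y : Ω) := Quotient.exact h
          have hb : b = b' := by rw [← x.2, ← y.2]; exact hinv _ _ hs
          subst hb
          exact congrArg (Sigma.mk b) (Quotient.sound (sameCycle_subtypePerm.2 hs))
    · intro q
      induction q using Quotient.inductionOn with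
      | h x => exact ⟨⟨f x, Quotient.mk _ ⟨x, rfl⟩⟩, rfl⟩
  unfold cyc
  rw [← Nat.card_congr (Equiv.ofBijective F hF), Nat.card_sigma]

/-- The bound for all actions follows from the bound for the transitive constituents. -/
theorem bound_of_transitive {p : ℕ} [Fact p.Prime] {a : ℝ} (ha : 0 ≤ a) {P Ω : Type}
    [Group P] [Fintype P] [MulAction P Ω] [FaithfulSMul P Ω] [Fintype Ω] (hP : IsPGroup p P)
    (H : ∀ o : MulAction.orbitRel.Quotient P Ω, ∀ (Q : Type) [Group Q] [Fintype Q]
      [MulAction Q {x : Ω // Quotient.mk'' x = o}] [FaithfulSMul Q {x : Ω // Quotient.mk'' x = o}]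
      [Fintype {x : Ω // Quotient.mk'' x = o}], IsPGroup p Q →
      MulAction.IsPretransitive Q {x : Ω // Quotient.mk'' x = o} →
      Bound p a Q {x : Ω // Quotient.mk'' x = o}) :
    Bound p a P Ω := by
  classical
  let O := MulAction.orbitRel.Quotient P Ω
  let F : O → Type := fun o => {x : Ω // Quotient.mk'' x = o}
  let f : Ω → O := fun x => Quotient.mk'' x
  have hf : ∀ (g : P) x, f (g • x) = f x := fun g x => Quotient.sound' ⟨g, rfl⟩
  let φ : (o : O) → P →* Perm (F o) := fun o =>
    MonoidHom.mk' (fun g => (MulAction.toPerm g : Perm Ω).subtypePerm (p := fun x => f x = o)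
      (fun x => by simp [MulAction.toPerm_apply, hf]))
      (fun g h => by ext x; exact mul_smul g h (x : Ω))
  haveI : ∀ o : O, Fintype (φ o).range := fun o => Fintype.ofFinite _
  haveI : ∀ o : O, Fintype (F o) := fun o => Fintype.ofFinite _
  have htr : ∀ o : O, MulAction.IsPretransitive (φ o).range (F o) := by
    intro o
    refine ⟨fun x y => ?_⟩
    obtain ⟨g, hg⟩ : (y : Ω) ∈ MulAction.orbit P (x : Ω) := Quotient.exact' (y.2.trans x.2.symm)
    exact ⟨⟨φ o g, g, rfl⟩, Subtype.ext hg⟩
  have hB : ∀ o : O, Bound p a (φ o).range (F o) := fun o =>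
    H o _ (hP.of_surjective (φ o).rangeRestrict (φ o).rangeRestrict_surjective) (htr o)
  have hone : ∀ o : O, norb (φ o).range (F o) = 1 := by
    intro o
    haveI := htr o
    haveI : Nonempty (F o) := Quotient.inductionOn' o fun x => ⟨⟨x, rfl⟩⟩
    exact Nat.card_eq_one_iff_unique.2 ⟨⟨fun u v => by
      induction u using Quotient.inductionOn' with
      | h x => induction v using Quotient.inductionOn' with
        | h y => exact Quotient.sound' (MulAction.exists_smul_eq _ y x)⟩,
      ‹Nonempty (F o)›.map Quotient.mk''⟩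
  have hcard : Fintype.card Ω = ∑ o : O, Fintype.card (F o) := by
    rw [← Fintype.card_sigma]
    exact (Fintype.card_congr (Equiv.sigmaFiberEquiv f)).symm
  let Φ : P → (o : O) → (φ o).range := fun g o => ⟨φ o g, g, rfl⟩
  have hΦ : Function.Injective Φ := by
    intro g h hgh
    refine FaithfulSMul.eq_of_smul_eq_smul (α := Ω) fun x => ?_
    have := congrFun hgh (f x)
    have := DFunLike.congr_fun (congrArg Subtype.val this) (⟨x, rfl⟩ : F (f x))
    exact congrArg Subtype.val this
  have hr : norb P Ω = Fintype.card O := Nat.card_eq_fintype_card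
  constructor
  · calc Nat.card P ^ (p - 1) * p ^ norb P Ω
        ≤ Nat.card ((o : O) → (φ o).range) ^ (p - 1) * p ^ norb P Ω := by
          gcongr; exact Nat.card_le_card_of_injective Φ hΦ
      _ = ∏ o : O, (Nat.card (φ o).range ^ (p - 1) * p) := by
          rw [Finset.prod_mul_distrib, Finset.prod_pow, Finset.prod_const, Finset.card_univ, hr,
            Nat.card_pi]
      _ ≤ ∏ o : O, p ^ Fintype.card (F o) := Finset.prod_le_prod' fun o _ => by
          simpa [hone o] using (hB o).1
      _ = p ^ Fintype.card Ω := by rw [Finset.prod_pow_eq_pow_sum, hcard]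
  · intro hp3
    have he := eps_nonneg (p := p) (by omega)
    have hc : ∀ g : P, a ^ cyc (MulAction.toPerm g : Perm Ω) =
        ∏ o : O, a ^ cyc (MulAction.toPerm (Φ g o) : Perm (F o)) := by
      intro g
      rw [Finset.prod_pow_eq_pow_sum]
      congr 1
      exact cyc_split (MulAction.toPerm g : Perm Ω) f (hf g)
    calc (∑ x : P, a ^ cyc (MulAction.toPerm x : Perm Ω)) * (1 + eps p) ^ norb P Ω
        ≤ (∑ t : (o : O) → (φ o).range, ∏ o : O, a ^ cyc (MulAction.toPerm (t o) : Perm (F o))) *
            (1 + eps p) ^ norb P Ω := by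
          gcongr
          simp only [hc]
          rw [← Finset.sum_image (f := fun t => ∏ o : O, a ^ cyc (MulAction.toPerm (t o) : Perm (F o)))
            (fun x _ y _ h => hΦ h)]
          exact Finset.sum_le_univ_sum_of_nonneg fun t => by positivity
      _ = ∏ o : O, ((∑ y : (φ o).range, a ^ cyc (MulAction.toPerm y : Perm (F o))) * (1 + eps p)) := by
          rw [Finset.prod_mul_distrib, Finset.prod_const, Finset.card_univ, hr, Fintype.prod_sum]
      _ ≤ ∏ o : O, (a * (1 + eps p)) ^ Fintype.card (F o) := by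
          refine Finset.prod_le_prod (fun o _ => ?_) fun o _ => ?_
          · positivity
          · simpa [hone o] using (hB o).2 hp3
      _ = (a * (1 + eps p)) ^ Fintype.card Ω := by rw [Finset.prod_pow_eq_pow_sum, hcard]

theorem arith_tail {p e t : ℕ} (hp : 3 ≤ p) (ht : 1 ≤ t) (h : (p - 1) * t + 1 ≤ p * e) :
    p ^ t * 3 ^ (p - 1) ≤ p * 3 ^ ((p - 1) * e) := by
  obtain ⟨s, rfl⟩ : ∃ s, t = s + 1 := ⟨t - 1, by omega⟩
  obtain ⟨f, rfl⟩ : ∃ f, e = f + 1 := ⟨e - 1, by rcases e with _ | e <;> omega⟩
  obtain ⟨q, rfl⟩ : ∃ q, p = q + 1 := ⟨p - 1, by omega⟩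
  simp only [Nat.add_sub_cancel] at h ⊢
  have hs : q * s ≤ (q + 1) * f := by nlinarith
  have h3 : q + 1 ≤ 3 ^ (q - 1) := by
    clear h hs ht
    obtain ⟨r, rfl⟩ : ∃ r, q = r + 2 := ⟨q - 2, by omega⟩
    show r + 2 + 1 ≤ 3 ^ (r + 1)
    induction r with
    | zero => norm_num
    | succ r ih => have := ih (by omega); rw [pow_succ]; omega
  have key : (q + 1) ^ s ≤ 3 ^ (q * f) := by
    refine (Nat.pow_le_pow_iff_left (n := q) (by omega)).1 ?_
    calc ((q + 1) ^ s) ^ q = (q + 1) ^ (q * s) := by rw [← pow_mul, Nat.mul_comm]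
      _ ≤ (q + 1) ^ ((q + 1) * f) := Nat.pow_le_pow_right (by omega) hs
      _ ≤ (3 ^ (q - 1)) ^ ((q + 1) * f) := Nat.pow_le_pow_left h3 _
      _ ≤ (3 ^ (q * f)) ^ q := by
          rw [← pow_mul, ← pow_mul]
          refine Nat.pow_le_pow_right (by norm_num) ?_
          have : (q - 1) * (q + 1) ≤ q * q := by
            obtain ⟨r, rfl⟩ : ∃ r, q = r + 1 := ⟨q - 1, by omega⟩
            simp only [Nat.add_sub_cancel]; nlinarith
          calc (q - 1) * ((q + 1) * f) = (q - 1) * (q + 1) * f := by ring
            _ ≤ q * q * f := Nat.mul_le_mul_right f this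
            _ = q * f * q := by ring
  calc (q + 1) ^ (s + 1) * 3 ^ q = (q + 1) * ((q + 1) ^ s * 3 ^ q) := by ring
    _ ≤ (q + 1) * (3 ^ (q * f) * 3 ^ q) := by gcongr
    _ = (q + 1) * 3 ^ (q * (f + 1)) := by rw [← pow_add, Nat.mul_succ]

theorem bound_transitive {p : ℕ} [Fact p.Prime] {a : ℝ} (ha : 3 ≤ a) :
    ∀ (d : ℕ) (P Ω : Type) [Group P] [Fintype P] [MulAction P Ω] [FaithfulSMul P Ω] [Fintype Ω],
      Fintype.card Ω = d → IsPGroup p P → MulAction.IsPretransitive P Ω → Bound p a P Ω := by
  intro d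
  induction d using Nat.strong_induction_on with
  | _ d IH =>
  intro P Ω _ _ _ _ _ hd hP htr
  classical
  have hpp : p.Prime := Fact.out
  rcases Nat.lt_or_ge d 2 with hd2 | hd2
  · have hsub : Subsingleton Ω := Fintype.card_le_one_iff_subsingleton.1 (by omega)
    haveI : Subsingleton P :=
      ⟨fun g h => FaithfulSMul.eq_of_smul_eq_smul (α := Ω) fun x => Subsingleton.elim _ _⟩
    have hP1 : Nat.card P = 1 := Nat.card_eq_one_iff_unique.2 ⟨inferInstance, ⟨1⟩⟩
    rcases Nat.eq_zero_or_pos d with h0 | h0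
    · haveI : IsEmpty Ω := Fintype.card_eq_zero_iff.1 (hd.trans h0)
      have : norb P Ω = 0 := Nat.card_of_isEmpty
      refine ⟨by rw [hP1, this, hd, h0]; simp, fun _ => ?_⟩
      rw [Fintype.sum_subsingleton _ (1 : P)]
      simp [this, hd, h0, cyc]
    · haveI : Nonempty Ω := Fintype.card_pos_iff.1 (by omega)
      have h1 : norb P Ω = 1 := Nat.card_eq_one_iff_unique.2
        ⟨inferInstance, ‹Nonempty Ω›.map Quotient.mk''⟩
      have hc : ∀ σ : Perm Ω, cyc σ = 1 := fun σ =>
        Nat.card_eq_one_iff_unique.2 ⟨inferInstance, ‹Nonempty Ω›.map (Quotient.mk _)⟩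
      refine ⟨by rw [hP1, h1, show Fintype.card Ω = 1 by omega]; simp, fun _ => ?_⟩
      rw [Fintype.sum_subsingleton _ (1 : P)]
      simp [h1, hc, show Fintype.card Ω = 1 by omega]
  · obtain ⟨ω⟩ : Nonempty Ω := Fintype.card_pos_iff.1 (by omega)
    haveI := htr
    set H := MulAction.stabilizer P ω with hH
    have hidx : H.index = d := by
      rw [hH, MulAction.index_stabilizer_of_transitive, Nat.card_eq_fintype_card, hd]
    obtain ⟨t, ht⟩ := IsPGroup.iff_card.1 hP
    have ht1 : 1 ≤ t := by
      by_contra h0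
      have : H.index ∣ 1 := by
        have := H.index_dvd_card
        rwa [ht, show t = 0 by omega, pow_zero] at this
      rw [hidx, Nat.dvd_one] at this; omega
    obtain ⟨h, hh⟩ := IsPGroup.iff_card.1 (hP.to_subgroup H)
    have hht : h ≤ t - 1 := by
      by_contra hlt
      have : t ≤ h := by omega
      have h2 := Subgroup.card_mul_index H
      rw [hh, ht, hidx] at h2
      have : p ^ t ≤ p ^ h := Nat.pow_le_pow_right hpp.pos this
      have := hpp.pos
      nlinarith [pow_pos hpp.pos h]
    obtain ⟨N, hN, hHN⟩ := Sylow.exists_subgroup_card_pow_prime_le (G := P) p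
      (m := t - 1) (by rw [ht]; exact pow_dvd_pow p (by omega)) H hh hht
    have hNi : N.index = p := by
      have h2 := Subgroup.card_mul_index N
      rw [hN, ht, show t = t - 1 + 1 by omega, pow_succ, Nat.add_sub_cancel] at h2
      exact mul_left_cancel₀ (pow_ne_zero _ hpp.ne_zero) h2
    haveI hNn : N.Normal := Subgroup.normal_of_index_eq_minFac_card (by
      rw [hNi, ht, Nat.Prime.pow_minFac hpp (by omega)])
    -- the orbits of `N`
    have hmk : ∀ g : P, ∀ x y : Ω, y ∈ MulAction.orbit N x → g • y ∈ MulAction.orbit N (g • x) := by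
      rintro g x y ⟨n, rfl⟩
      refine ⟨⟨g * (n : P) * g⁻¹, hNn.conj_mem _ n.2 g⟩, ?_⟩
      show (g * (n : P) * g⁻¹) • g • x = g • (n : P) • x
      rw [← mul_smul, ← mul_smul, mul_assoc _ g⁻¹ g, inv_mul_cancel, mul_one]
    have hstab : ∀ x : Ω, MulAction.stabilizer P x ≤ N := by
      intro x g hg
      obtain ⟨k, rfl⟩ := MulAction.exists_smul_eq P ω x
      have : k⁻¹ * g * k ∈ N := hHN (by
        show (k⁻¹ * g * k) • ω = ω
        rw [mul_smul, mul_smul, MulAction.mem_stabilizer_iff.1 hg, inv_smul_smul])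
      simpa [mul_assoc] using hNn.conj_mem _ this k
    have hnN : norb N Ω = p := by
      let F : P ⧸ N → MulAction.orbitRel.Quotient N Ω := Quotient.lift
        (fun g => Quotient.mk'' (g • ω)) (fun g k hgk => Quotient.sound' (by
          have hm : g⁻¹ * k ∈ N := QuotientGroup.leftRel_apply.1 hgk
          have := hmk g ω ((g⁻¹ * k) • ω) ⟨⟨_, hm⟩, rfl⟩
          rw [← mul_smul, mul_inv_cancel_left] at this
          exact MulAction.orbitRel_apply.2 ((MulAction.orbit_eq_iff.2 this).symm ▸
            MulAction.mem_orbit_self _)))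
      have hF : Function.Bijective F := by
        constructor
        · rintro ⟨g⟩ ⟨k⟩ h
          obtain ⟨n, hn⟩ : g • ω ∈ MulAction.orbit N (k • ω) := Quotient.exact' h
          refine Quotient.sound (QuotientGroup.leftRel_apply.2 ?_)
          have : g⁻¹ * ((n : P) * k) ∈ N := hHN (by
            show (g⁻¹ * ((n : P) * k)) • ω = ω
            rw [mul_smul, mul_smul]
            exact inv_smul_eq_iff.2 hn)
          have h2 := N.mul_mem (hNn.conj_mem' _ (N.inv_mem n.2) g) this
          simpa [mul_assoc] using h2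
        · intro q
          induction q using Quotient.inductionOn' with
          | h x => obtain ⟨g, rfl⟩ := MulAction.exists_smul_eq P ω x; exact ⟨(g : P ⧸ N), rfl⟩
      rw [← hNi]
      exact (Nat.card_congr (Equiv.ofBijective F hF)).symm
    haveI : Fintype N := Fintype.ofFinite N
    haveI : FaithfulSMul N Ω :=
      ⟨fun {g k} h => Subtype.ext (FaithfulSMul.eq_of_smul_eq_smul (α := Ω) h)⟩
    have hBN : Bound p a N Ω := by
      refine bound_of_transitive (by linarith) (hP.to_subgroup N) ?_
      intro o Q _ _ _ _ _ hQ hQt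
      refine IH _ ?_ Q _ rfl hQ hQt
      rw [← hd]
      by_contra hle
      have hall : ∀ x : Ω, Quotient.mk'' x = o := by
        intro x
        by_contra hx
        exact hle (Fintype.card_subtype_lt (x := x) hx)
      have : norb N Ω ≤ 1 := Finite.card_le_one_iff_subsingleton.2 ⟨fun u v => by
        induction u using Quotient.inductionOn' with
        | h x => induction v using Quotient.inductionOn' with
          | h y => rw [hall x, hall y]⟩
      rw [hnN] at this
      exact absurd hpp.two_le (by omega)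
    have hr : norb P Ω = 1 := Nat.card_eq_one_iff_unique.2 ⟨⟨fun u v => by
        induction u using Quotient.inductionOn' with
        | h x => induction v using Quotient.inductionOn' with
          | h y => exact Quotient.sound' (MulAction.exists_smul_eq _ y x)⟩, ⟨Quotient.mk'' ω⟩⟩
    have hPN : Nat.card P = p * Nat.card N := by rw [← Subgroup.card_mul_index N, hNi, Nat.mul_comm]
    have hord : Nat.card P ^ (p - 1) * p ≤ p ^ d := by
      refine le_trans (le_of_eq ?_) (le_of_le_of_eq hBN.1 (by rw [hd]))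
      rw [hPN, hnN, mul_pow]
      conv_rhs => rw [show p = (p - 1) + 1 by have := hpp.pos; omega, pow_succ]
      simp only [Nat.add_sub_cancel]
      rw [show p - 1 + 1 = p by have := hpp.pos; omega]
      ring
    refine ⟨by rw [hr, pow_one, hd]; exact hord, fun hp3 => ?_⟩
    have he := eps_nonneg (p := p) (by omega)
    obtain ⟨e, he'⟩ : p ∣ d := by
      rw [← hidx, ← hNi]; exact Subgroup.index_dvd_of_le hHN
    have he1 : 1 ≤ e := by rcases e with _ | e <;> simp_all
    -- elements outside `N`
    have hout : ∀ x : P, x ∉ N → cyc (MulAction.toPerm x : Perm Ω) ≤ e := by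
      intro x hx
      let σ : Perm Ω := MulAction.toPerm x
      have hσ : ∀ j : ℕ, ∀ y : Ω, (σ ^ j) y = x ^ j • y := by
        intro j
        induction j with
        | zero => simp
        | succ j ih => intro y; rw [pow_succ, Perm.mul_apply, ih, pow_succ, mul_smul]; rfl
      let F : Quotient (SameCycle.setoid σ) × Fin p → Ω := fun z => (σ ^ (z.2 : ℕ)) z.1.out
      have hFi : Function.Injective F := by
        rintro ⟨q, i⟩ ⟨q', j⟩ h
        have hs : σ.SameCycle q.out q'.out := by
          have h1 : σ.SameCycle ((σ ^ (i : ℕ)) q.out) q'.out :=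
            (show (σ ^ (i : ℕ)) q.out = _ from h) ▸ sameCycle_pow_left.2 (SameCycle.refl σ _)
          exact sameCycle_pow_left.1 h1
        have hq : q = q' := by rw [← q.out_eq, ← q'.out_eq]; exact Quotient.sound hs
        subst hq
        refine Prod.ext rfl (Fin.ext ?_)
        change (σ ^ (i : ℕ)) q.out = (σ ^ (j : ℕ)) q.out at h
        rw [hσ, hσ] at h
        dsimp only
        wlog hij : (i : ℕ) ≤ j generalizing i j
        · exact (this j i h.symm (by omega)).symm
        by_contra hne
        have hm : x ^ ((j : ℕ) - i) ∈ N := by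
          apply hstab (x ^ (i : ℕ) • q.out)
          rw [MulAction.mem_stabilizer_iff, ← mul_smul, ← pow_add, Nat.sub_add_cancel hij]
          exact h.symm
        have hcop : Nat.Coprime ((j : ℕ) - i) (orderOf x) := by
          obtain ⟨k, hk⟩ := IsPGroup.iff_orderOf.1 hP x
          rw [hk]
          refine Nat.Coprime.pow_right _ ((hpp.coprime_iff_not_dvd.2 fun hdvd => ?_).symm)
          have := Nat.le_of_dvd (by omega) hdvd
          have := j.2
          omega
        obtain ⟨m, hm'⟩ := exists_pow_eq_self_of_coprime hcop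
        exact hx (hm' ▸ N.pow_mem hm m)
      have := Nat.card_le_card_of_injective F hFi
      rw [Nat.card_prod, Nat.card_fin, Nat.card_eq_fintype_card (α := Ω), hd, he'] at this
      exact Nat.le_of_mul_le_mul_right (by rw [Nat.mul_comm e p]; exact this) hpp.pos
    have ha0 : 0 ≤ a := by linarith
    have hsum : (∑ x : P, a ^ cyc (MulAction.toPerm x : Perm Ω)) ≤
        (∑ x : N, a ^ cyc (MulAction.toPerm x : Perm Ω)) + (Nat.card P : ℝ) * a ^ e := by
      rw [← Finset.sum_filter_add_sum_filter_not Finset.univ (fun x => x ∈ N)]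
      refine add_le_add (le_of_eq ?_) ?_
      · rw [Finset.sum_subtype _ (p := fun x => x ∈ N) (fun x => by simp)]
        rfl
      · refine le_trans (Finset.sum_le_card_nsmul _ _ (a ^ e) fun x hx => ?_) ?_
        · exact pow_le_pow_right₀ (by linarith) (hout x (Finset.mem_filter.1 hx).2)
        · rw [nsmul_eq_mul]
          gcongr
          rw [Nat.card_eq_fintype_card]
          exact Finset.card_le_univ _
    have htail : (Nat.card P : ℝ) * a ^ e * 3 ^ (p - 1) ≤ (p : ℝ) * a ^ d := by
      have h1 : p ^ t * 3 ^ (p - 1) ≤ p * 3 ^ ((p - 1) * e) := by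
        refine arith_tail hp3 ht1 ?_
        have h2 : p ^ ((p - 1) * t + 1) ≤ p ^ (p * e) := by
          rw [pow_succ, Nat.mul_comm (p - 1) t, pow_mul, ← ht, ← he']; exact hord
        exact (Nat.pow_le_pow_iff_right hpp.one_lt).1 h2
      have h1' : (Nat.card P : ℝ) * 3 ^ (p - 1) ≤ (p : ℝ) * 3 ^ ((p - 1) * e) := by
        rw [ht]; exact_mod_cast h1
      calc (Nat.card P : ℝ) * a ^ e * 3 ^ (p - 1) = (Nat.card P : ℝ) * 3 ^ (p - 1) * a ^ e := by ring
        _ ≤ (p : ℝ) * 3 ^ ((p - 1) * e) * a ^ e := by gcongr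
        _ ≤ (p : ℝ) * a ^ ((p - 1) * e) * a ^ e := by gcongr
        _ = (p : ℝ) * a ^ d := by
          rw [mul_assoc, ← pow_add, he', ← Nat.succ_mul, show (p - 1).succ = p by omega]
    have hN2 := hBN.2 hp3
    rw [hnN, hd] at hN2
    rw [hr, pow_one, hd]
    set u := 1 + eps p with hu
    have hu1 : 1 ≤ u := by linarith
    have hu2 : 1 + (p : ℝ) / 3 ^ (p - 1) ≤ u ^ (p - 1) := one_add_div_le (by omega)
    set SN := ∑ x : N, a ^ cyc (MulAction.toPerm x : Perm Ω) with hSN
    set S := ∑ x : P, a ^ cyc (MulAction.toPerm x : Perm Ω) with hS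
    set T := (Nat.card P : ℝ) * a ^ e with hT
    have hT' : T ≤ (p : ℝ) / 3 ^ (p - 1) * a ^ d := by
      rw [div_mul_eq_mul_div, le_div_iff₀ (by positivity)]; exact htail
    have hup : u ^ p = u ^ (p - 1) * u := by rw [← pow_succ, show p - 1 + 1 = p by omega]
    have hpd : u ^ p ≤ u ^ d := pow_le_pow_right₀ hu1 (by rw [he']; exact Nat.le_mul_of_pos_right p he1)
    -- multiply through by `u ^ (p-1)`
    refine le_of_mul_le_mul_right ?_ (pow_pos (by linarith : 0 < u) (p - 1))
    calc S * u * u ^ (p - 1) ≤ (SN + T) * u * u ^ (p - 1) := by gcongr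
      _ = SN * u ^ p + T * u ^ p := by rw [hup]; ring
      _ ≤ (a * u) ^ d + ((p : ℝ) / 3 ^ (p - 1) * a ^ d) * u ^ d := by gcongr
      _ = (a * u) ^ d * (1 + (p : ℝ) / 3 ^ (p - 1)) := by rw [mul_pow]; ring
      _ ≤ (a * u) ^ d * u ^ (p - 1) := by gcongr

/-- The bound for every action of a `p`-group. -/
theorem bound {p : ℕ} [Fact p.Prime] {a : ℝ} (ha : 3 ≤ a) {P Ω : Type} [Group P] [Fintype P]
    [MulAction P Ω] [FaithfulSMul P Ω] [Fintype Ω] (hP : IsPGroup p P) : Bound p a P Ω :=
  bound_of_transitive (by linarith) hP fun _ Q _ _ _ _ _ hQ hQt =>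
    bound_transitive ha _ Q _ rfl hQ hQt

end CfsgLib.Invol.ClassBound
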