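import Mathlib
import Cfsg.Agent.Lib.Invol.ClassBound.PSum

/-!
# A permutation group of degree `d` has at most `4 ^ (d-1)` conjugacy classes

Classes of elements with all prime divisors `< n` are counted recursively in `n`: the `p`-part
`x` may be taken in a fixed Sylow `p`-subgroup and the `p'`-part in the group induced by
`C(x)` on the cycles of `x`.
-/

set_option autoImplicit false

namespace CfsgLib.Invol.ClassBound

open Equiv Equiv.Perm

/-- All prime divisors of the order are `< n`. -/
def Smooth {G : Type*} [Group G] (n : ℕ) (g : G) : Prop :=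
  ∀ q : ℕ, q.Prime → q ∣ orderOf g → q < n

/-- The classes of `n`-smooth elements. -/
def SClasses (n : ℕ) (G : Type*) [Group G] : Type _ :=
  {c : ConjClasses G // ∃ g : G, ConjClasses.mk g = c ∧ Smooth n g}

instance sclassesFinite (n : ℕ) (G : Type*) [Group G] [Finite G] : Finite (SClasses n G) :=
  Subtype.finite

/-- The recursive bound. -/
noncomputable def bnd (n : ℕ) : ℝ := if n ≤ 2 then 1 else 4 - 27 / 3 ^ n

theorem bnd_three : bnd 3 = 3 := by norm_num [bnd]

theorem three_le_bnd {n : ℕ} (hn : 3 ≤ n) : 3 ≤ bnd n := by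
  have h : (27 : ℝ) ≤ 3 ^ n := by
    calc (27 : ℝ) = 3 ^ 3 := by norm_num
      _ ≤ 3 ^ n := pow_le_pow_right₀ (by norm_num) hn
  have h2 : (27 : ℝ) / 3 ^ n ≤ 1 := div_le_one_of_le₀ h (by positivity)
  simp only [bnd, show ¬ n ≤ 2 by omega, if_false]
  linarith

theorem bnd_le_four (n : ℕ) : bnd n ≤ 4 := by
  unfold bnd
  split
  · norm_num
  · have : (0 : ℝ) ≤ 27 / 3 ^ n := by positivity
    linarith

theorem one_le_bnd (n : ℕ) : 1 ≤ bnd n := by
  rcases le_or_gt n 2 with h | h
  · simp [bnd, h]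
  · linarith [three_le_bnd (n := n) h]

theorem bnd_succ_le (n : ℕ) : bnd n ≤ bnd (n + 1) := by
  rcases le_or_gt n 2 with h | h
  · exact le_trans (by simp [bnd, h]) (one_le_bnd _)
  · simp only [bnd, show ¬ n ≤ 2 by omega, show ¬ n + 1 ≤ 2 by omega, if_false]
    rw [pow_succ]
    have : (0 : ℝ) < 3 ^ n := by positivity
    have h2 : (27 : ℝ) / (3 ^ n * 3) ≤ 27 / 3 ^ n := by gcongr; linarith
    linarith

theorem bnd_step {p : ℕ} (hp : 3 ≤ p) : bnd p * (1 + eps p) ≤ bnd (p + 1) := by
  have h4 := bnd_le_four p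
  have he := eps_nonneg (p := p) (by omega)
  have hp' : (3 : ℝ) ≤ p := by exact_mod_cast hp
  have h1 : eps p ≤ (3 / 2) * 3 / 3 ^ p := by
    have hpow : (3 : ℝ) ^ p = 3 ^ (p - 1) * 3 := by rw [← pow_succ, show p - 1 + 1 = p by omega]
    rw [eps, hpow, mul_div_mul_right _ _ (by norm_num : (3 : ℝ) ≠ 0), div_le_div_iff₀ (by
      apply mul_pos (by linarith); positivity) (by positivity)]
    have : (0 : ℝ) < 3 ^ (p - 1) := by positivity
    nlinarith
  have h2 : bnd p + 18 / 3 ^ p = bnd (p + 1) := by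
    simp only [bnd, show ¬ p ≤ 2 by omega, show ¬ p + 1 ≤ 2 by omega, if_false, pow_succ]
    field_simp
    ring
  have h3 : bnd p * eps p ≤ 4 * ((3 / 2) * 3 / 3 ^ p) :=
    mul_le_mul h4 h1 he (by norm_num)
  have : (4 : ℝ) * ((3 / 2) * 3 / 3 ^ p) = 18 / 3 ^ p := by ring
  nlinarith

/-- Elements of order prime to `p` in one coset of an abelian normal `p`-subgroup are conjugate. -/
theorem conj_of_coset {G : Type*} [Group G] {p : ℕ} (hp : p.Prime) (K : Subgroup G) [K.Normal]
    (hab : ∀ a ∈ K, ∀ b ∈ K, a * b = b * a) {k₀ y : G} {e : ℕ} (hk : k₀ ∈ K) (he : k₀ ^ p ^ e = 1)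
    (hy : ¬ p ∣ orderOf y) (hy' : ¬ p ∣ orderOf (k₀ * y)) :
    ∃ k : G, k * y * k⁻¹ = k₀ * y := by
  haveI : IsMulCommutative K := ⟨⟨fun a b => Subtype.ext (hab a a.2 b b.2)⟩⟩
  let σ : K →* K := MonoidHom.mk'
    (fun k => ⟨y * (k : G) * y⁻¹, ‹K.Normal›.conj_mem _ k.2 y⟩)
    (fun a b => Subtype.ext (by simp [mul_assoc]))
  let κ : K := ⟨k₀, hk⟩
  let P : ℕ → K := fun j => (fun r => κ * σ r)^[j] 1
  have hPs : ∀ j, P (j + 1) = κ * σ (P j) := fun j => Function.iterate_succ_apply' _ j 1
  have hP : ∀ j, (k₀ * y) ^ j = (P j : G) * y ^ j := by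
    intro j
    induction j with
    | zero => simp [P]
    | succ j ih =>
      rw [pow_succ', ih, pow_succ', hPs]
      show _ = k₀ * (y * (P j : G) * y⁻¹) * (y * y ^ j)
      group
  set m := orderOf y * orderOf (k₀ * y) with hm
  have hPm : P m = 1 := by
    apply Subtype.ext
    have h1 := hP m
    rw [orderOf_dvd_iff_pow_eq_one.1 (dvd_mul_left _ _), orderOf_dvd_iff_pow_eq_one.1 (dvd_mul_right _ _),
      mul_one] at h1
    exact h1.symm
  have hcomm : ∀ a b : K, a * b = b * a := fun a b => Subtype.ext (hab a a.2 b b.2)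
  let _ : CommGroup K := { (inferInstance : Group K) with mul_comm := hcomm }
  let w : K := ∏ j ∈ Finset.range m, P j
  have hσw : κ ^ m * σ w = w := by
    rw [map_prod]
    have h2 : (∏ j ∈ Finset.range m, κ * σ (P j)) = κ ^ m * ∏ j ∈ Finset.range m, σ (P j) := by
      rw [Finset.prod_mul_distrib, Finset.prod_const, Finset.card_range]
    rw [← h2]
    have h3 := Finset.prod_range_succ' P m
    simp only [hPs] at h3
    rw [Finset.prod_range_succ, hPm, show P 0 = 1 from rfl, mul_one, mul_one] at h3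
    exact h3.symm
  have hcop : Nat.Coprime m (p ^ e) := by
    refine Nat.Coprime.pow_right _ (Nat.Coprime.symm (hp.coprime_iff_not_dvd.2 fun h => ?_))
    rcases hp.dvd_mul.1 h with h' | h'
    · exact hy h'
    · exact hy' h'
  have hord : orderOf κ ∣ p ^ e := orderOf_dvd_of_pow_eq_one (Subtype.ext (by simpa using he))
  obtain ⟨s, hs⟩ := exists_pow_eq_self_of_coprime (Nat.Coprime.coprime_dvd_right hord hcop)
  refine ⟨((w ^ s : K) : G), ?_⟩
  have h4 : w ^ s = κ * σ (w ^ s) := by
    conv_lhs => rw [← hσw]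
    rw [mul_pow, hs, map_pow]
  have h5 : ((w ^ s : K) : G) = k₀ * (y * ((w ^ s : K) : G) * y⁻¹) := congrArg Subtype.val h4
  calc ((w ^ s : K) : G) * y * ((w ^ s : K) : G)⁻¹
      = k₀ * (y * ((w ^ s : K) : G) * y⁻¹) * y * ((w ^ s : K) : G)⁻¹ := by rw [← h5]
    _ = k₀ * y := by group

/-- Decomposition of a group element into commuting `p`- and `p'`-parts. -/
theorem exists_parts {G : Type*} [Group G] [Finite G] {p : ℕ} (hp : p.Prime) (g : G) :
    ∃ x y : G, g = x * y ∧ Commute x y ∧ (∃ k, orderOf x = p ^ k) ∧ ¬ p ∣ orderOf y ∧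
      orderOf y ∣ orderOf g := by
  obtain ⟨k, m, hm, ho⟩ := Nat.exists_eq_pow_mul_and_not_dvd (orderOf_pos g).ne' p hp.ne_one
  have hcop : Nat.Coprime (p ^ k) m :=
    Nat.Coprime.pow_left _ (hp.coprime_iff_not_dvd.2 hm)
  have hb : ((p ^ k : ℕ) : ℤ) * Nat.gcdA (p ^ k) m + (m : ℤ) * Nat.gcdB (p ^ k) m = 1 := by
    rw [← Nat.gcd_eq_gcd_ab, hcop.gcd_eq_one]; rfl
  refine ⟨g ^ ((m : ℤ) * Nat.gcdB (p ^ k) m), g ^ (((p ^ k : ℕ) : ℤ) * Nat.gcdA (p ^ k) m),
    by rw [← zpow_add, add_comm, hb, zpow_one], (Commute.refl g).zpow_zpow _ _, ?_, ?_, ?_⟩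
  · obtain ⟨j, -, hj⟩ := (Nat.dvd_prime_pow hp).1
      (show orderOf (g ^ ((m : ℤ) * Nat.gcdB (p ^ k) m)) ∣ p ^ k from orderOf_dvd_of_pow_eq_one (by
        rw [← zpow_natCast, ← zpow_mul, ← orderOf_dvd_iff_zpow_eq_one, ho]
        exact ⟨Nat.gcdB (p ^ k) m, by push_cast; ring⟩))
    exact ⟨j, hj⟩
  · intro h
    refine hm (h.trans (orderOf_dvd_of_pow_eq_one ?_))
    rw [← zpow_natCast, ← zpow_mul, ← orderOf_dvd_iff_zpow_eq_one, ho]
    exact ⟨Nat.gcdA (p ^ k) m, by push_cast; ring⟩
  · exact orderOf_dvd_of_pow_eq_one (by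
      rw [← zpow_natCast, ← zpow_mul, zpow_mul', zpow_natCast, pow_orderOf_eq_one, one_zpow])

/-- Injection of smooth classes into pairs (p-part, class of the p'-part in the centralizer). -/
theorem card_sclasses_succ_le {G : Type} [Group G] [Finite G] {p : ℕ} [Fact p.Prime]
    (P : Sylow p G) :
    Nat.card (SClasses (p + 1) G) ≤
      Nat.card (Σ x : (P : Subgroup G), SClasses p (Subgroup.centralizer ({(x : G)} : Set G))) := by
  classical
  have hp : p.Prime := Fact.out
  have key : ∀ c : SClasses (p + 1) G, ∃ x : (P : Subgroup G),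
      ∃ y : Subgroup.centralizer ({(x : G)} : Set G),
        ConjClasses.mk ((x : G) * (y : G)) = c.1 ∧ Smooth p y := by
    rintro ⟨c, g, rfl, hg⟩
    obtain ⟨x, y, hxy, hc, ⟨k, hk⟩, hy, hyd⟩ := exists_parts hp g
    obtain ⟨Q, hQ⟩ := (IsPGroup.of_card (G := Subgroup.zpowers x) (p := p) (n := k)
      (by rw [Nat.card_zpowers, hk])).exists_le_sylow
    obtain ⟨h, hh⟩ := MulAction.exists_smul_eq G Q P
    have hxP : h * x * h⁻¹ ∈ (P : Subgroup G) := by
      rw [← hh, Sylow.coe_subgroup_smul]
      exact Subgroup.smul_mem_pointwise_smul x (MulAut.conj h) _ (hQ (Subgroup.mem_zpowers x))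
    refine ⟨⟨_, hxP⟩, ⟨h * y * h⁻¹, Subgroup.mem_centralizer_singleton_iff.2 ?_⟩, ?_, ?_⟩
    · show h * y * h⁻¹ * (h * x * h⁻¹) = h * x * h⁻¹ * (h * y * h⁻¹)
      exact (hc.symm.map (MulAut.conj h)).eq
    · refine ConjClasses.mk_eq_mk_iff_isConj.2 (isConj_iff.2 ⟨h⁻¹, ?_⟩)
      show h⁻¹ * (h * x * h⁻¹ * (h * y * h⁻¹)) * h⁻¹⁻¹ = g
      rw [hxy]; group
    · intro q hq hqd
      rw [← Subgroup.orderOf_coe] at hqd
      have e : orderOf (h * y * h⁻¹) = orderOf y :=
        orderOf_injective (MulAut.conj h).toMonoidHom (MulAut.conj h).injective y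
      rw [show orderOf _ = orderOf y from e] at hqd
      have h1 := hg q hq (hqd.trans hyd)
      have h2 : q ≠ p := fun e => hy (e ▸ hqd)
      omega
  choose x y hc hy using key
  refine Nat.card_le_card_of_injective (fun c => ⟨x c, ⟨ConjClasses.mk (y c), y c, rfl, hy c⟩⟩) ?_
  intro c c' h
  obtain ⟨h1, h2⟩ := Sigma.mk.inj_iff.1 h
  have key2 : ∀ (a a' : (P : Subgroup G)) (ha : a = a')
      (b : Subgroup.centralizer ({(a : G)} : Set G)) (b' : Subgroup.centralizer ({(a' : G)} : Set G))
      (hb : Smooth p b) (hb' : Smooth p b'),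
      HEq (⟨ConjClasses.mk b, b, rfl, hb⟩ : SClasses p (Subgroup.centralizer ({(a : G)} : Set G)))
        (⟨ConjClasses.mk b', b', rfl, hb'⟩ : SClasses p (Subgroup.centralizer ({(a' : G)} : Set G))) →
      ConjClasses.mk ((a : G) * b) = ConjClasses.mk ((a' : G) * b') := by
    rintro a _ rfl b b' hb hb' h
    obtain ⟨z, hz⟩ := isConj_iff.1 (ConjClasses.mk_eq_mk_iff_isConj.1
      (congrArg Subtype.val (eq_of_heq h)))
    refine ConjClasses.mk_eq_mk_iff_isConj.2 (isConj_iff.2 ⟨z, ?_⟩)
    have hza : (z : G) * a = a * z := Subgroup.mem_centralizer_singleton_iff.1 z.2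
    calc (z : G) * (a * b) * (z : G)⁻¹ = (z * a) * b * (z : G)⁻¹ := by group
      _ = (a : G) * ((z * b * z⁻¹ : Subgroup.centralizer ({(a : G)} : Set G)) : G) := by
          rw [hza]; push_cast; group
      _ = (a : G) * b' := by rw [hz]
  apply Subtype.ext
  rw [← hc c, ← hc c']
  exact key2 _ _ h1 _ _ (hy c) (hy c') h2

theorem card_sclasses_le_two {G : Type} [Group G] [Finite G] (n : ℕ) (hn : n ≤ 2) :
    Nat.card (SClasses n G) ≤ 1 := by
  refine Finite.card_le_one_iff_subsingleton.2 ⟨?_⟩
  have : ∀ c : SClasses n G, c.1 = ConjClasses.mk 1 := by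
    rintro ⟨c, g, rfl, hg⟩
    have : g = 1 := by
      rw [← orderOf_eq_one_iff]
      by_contra h
      obtain ⟨q, hq, hqd⟩ := Nat.exists_prime_and_dvd h
      have := hg q hq hqd
      have := hq.two_le
      omega
    exact congrArg ConjClasses.mk this
  exact fun a b => Subtype.ext ((this a).trans (this b).symm)

theorem card_sclasses_le (n : ℕ) : ∀ (G Ω : Type) [Group G] [Finite G] [MulAction G Ω]
    [FaithfulSMul G Ω] [Fintype Ω], Nonempty Ω →
    (Nat.card (SClasses n G) : ℝ) ≤ bnd n ^ (Fintype.card Ω - 1) := by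
  induction n with
  | zero =>
    intro G Ω _ _ _ _ _ _
    calc (Nat.card (SClasses 0 G) : ℝ) ≤ 1 := by exact_mod_cast card_sclasses_le_two 0 (by norm_num)
      _ ≤ _ := one_le_pow₀ (one_le_bnd 0)
  | succ p IH =>
    intro G Ω _ _ _ _ _ hΩ
    classical
    rcases le_or_gt (p + 1) 2 with hsmall | hbig
    · calc (Nat.card (SClasses (p + 1) G) : ℝ) ≤ 1 := by
            exact_mod_cast card_sclasses_le_two _ hsmall
        _ ≤ _ := one_le_pow₀ (one_le_bnd _)
    by_cases hp : p.Prime
    swap
    · -- nothing new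
      have h1 : Nat.card (SClasses (p + 1) G) ≤ Nat.card (SClasses p G) := by
        refine Nat.card_le_card_of_injective (fun c => ⟨c.1, ?_⟩) fun a b h => ?_
        · obtain ⟨g, hg, hs⟩ := c.2
          refine ⟨g, hg, fun q hq hqd => ?_⟩
          have h1 := hs q hq hqd
          have h2 : q ≠ p := fun e => hp (e ▸ hq)
          omega
        · have h' := congrArg Subtype.val h
          exact Subtype.ext h'
      calc (Nat.card (SClasses (p + 1) G) : ℝ) ≤ Nat.card (SClasses p G) := by exact_mod_cast h1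
        _ ≤ bnd p ^ (Fintype.card Ω - 1) := IH G Ω hΩ
        _ ≤ bnd (p + 1) ^ (Fintype.card Ω - 1) :=
          pow_le_pow_left₀ (by linarith [one_le_bnd p]) (bnd_succ_le p) _
    haveI : Fact p.Prime := ⟨hp⟩
    obtain ⟨P⟩ : Nonempty (Sylow p G) := inferInstance
    haveI : Fintype (P : Subgroup G) := Fintype.ofFinite _
    haveI : FaithfulSMul (P : Subgroup G) Ω :=
      ⟨fun {g k} h => Subtype.ext (FaithfulSMul.eq_of_smul_eq_smul (α := Ω) h)⟩
    have hd : 1 ≤ Fintype.card Ω := Fintype.card_pos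
    have hB := fun (a : ℝ) (ha : 3 ≤ a) => bound (p := p) ha (P := (P : Subgroup G)) (Ω := Ω) P.isPGroup'
    have hr : 1 ≤ norb (P : Subgroup G) Ω := by
      haveI : Nonempty (MulAction.orbitRel.Quotient (P : Subgroup G) Ω) := hΩ.map Quotient.mk''
      exact Nat.card_pos
    -- the group induced on the cycles of an element of `P`
    have hterm : ∀ x : (P : Subgroup G),
        (Nat.card (SClasses p (Subgroup.centralizer ({(x : G)} : Set G))) : ℝ) ≤
          bnd p ^ (cyc (MulAction.toPerm x : Perm Ω) - 1) := by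
      intro x
      let σ : Perm Ω := MulAction.toPerm x
      let C := Subgroup.centralizer ({(x : G)} : Set G)
      let Q := Quotient (SameCycle.setoid σ)
      haveI : Fintype Q := Fintype.ofFinite Q
      have hcom : ∀ (g : C) (a b : Ω), σ.SameCycle a b → σ.SameCycle ((g : G) • a) ((g : G) • b) := by
        rintro g a b ⟨i, rfl⟩
        refine ⟨i, ?_⟩
        have hgx : Commute (MulAction.toPermHom G Ω (x : G)) (MulAction.toPermHom G Ω (g : G)) :=
          (show Commute (x : G) (g : G) from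
            (Subgroup.mem_centralizer_singleton_iff.1 g.2).symm).map _
        exact DFunLike.congr_fun (hgx.zpow_left i).eq a
      let act : MulAction C Q :=
        { smul := fun g q => Quotient.map (fun a => (g : G) • a) (fun a b h => hcom g a b h) q
          one_smul := fun q => Quotient.inductionOn q fun a =>
            congrArg (Quotient.mk _) (one_smul G a)
          mul_smul := fun g h q => Quotient.inductionOn q fun a =>
            congrArg (Quotient.mk _) (mul_smul (g : G) (h : G) a) }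
      let φ : C →* Perm Q := MulAction.toPermHom C Q
      obtain ⟨e, he⟩ := IsPGroup.iff_orderOf.1 P.isPGroup' x
      have hker : ∀ k ∈ φ.ker, ∀ a : Ω, ∃ i : ℤ, (k : G) • a = (x : G) ^ i • a := by
        intro k hk a
        have := DFunLike.congr_fun (MonoidHom.mem_ker.1 hk) (Quotient.mk _ a)
        have hs : σ.SameCycle a ((k : G) • a) := (Quotient.exact this).symm
        obtain ⟨i, hi⟩ := hs
        refine ⟨i, ?_⟩
        rw [← hi]
        exact DFunLike.congr_fun (map_zpow (MulAction.toPermHom G Ω) (x : G) i).symm a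
      have hgx : ∀ (g : C) (i : ℤ) (a : Ω), (g : G) • (x : G) ^ i • a = (x : G) ^ i • (g : G) • a := by
        intro g i a
        rw [← mul_smul, ← mul_smul]
        congr 1
        exact ((show Commute (g : G) (x : G) from
          Subgroup.mem_centralizer_singleton_iff.1 g.2).zpow_right i).eq
      have hab : ∀ a ∈ φ.ker, ∀ b ∈ φ.ker, a * b = b * a := by
        intro a ha b hb
        refine Subtype.ext (FaithfulSMul.eq_of_smul_eq_smul (α := Ω) fun w => ?_)
        obtain ⟨i, hi⟩ := hker a ha w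
        obtain ⟨j, hj⟩ := hker b hb w
        rw [Subgroup.coe_mul, Subgroup.coe_mul, mul_smul, mul_smul, hj, hgx, hi, hgx, hj,
          ← mul_smul, ← mul_smul, ← zpow_add, ← zpow_add, add_comm]
      have hexp : ∀ a ∈ φ.ker, a ^ p ^ e = 1 := by
        intro a ha
        refine Subtype.ext (FaithfulSMul.eq_of_smul_eq_smul (α := Ω) fun w => ?_)
        obtain ⟨i, hi⟩ := hker a ha w
        have : ∀ t : ℕ, (a : G) ^ t • w = (x : G) ^ (i * t) • w := by
          intro t
          induction t with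
          | zero => simp
          | succ t ih =>
            rw [pow_succ', mul_smul, ih, hgx, hi, ← mul_smul, ← zpow_add]
            congr 2
            push_cast; ring
        rw [SubmonoidClass.coe_pow, this, OneMemClass.coe_one, one_smul, zpow_mul']
        have : ((x : G) ^ ((p ^ e : ℕ) : ℤ)) = 1 := by
          rw [zpow_natCast, ← he, ← Subgroup.orderOf_coe]
          exact pow_orderOf_eq_one _
        rw [this, one_zpow, one_smul]
      -- the classes inject
      have hinj : Nat.card (SClasses p C) ≤ Nat.card (SClasses p φ.range) := by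
        have hsm : ∀ y : C, Smooth p y → Smooth p (φ.rangeRestrict y) := fun y hy q hq hqd =>
          hy q hq (hqd.trans (orderOf_map_dvd φ.rangeRestrict y))
        choose g hg hgs using fun c : SClasses p C => c.2
        refine Nat.card_le_card_of_injective
          (fun c => (⟨ConjClasses.mk (φ.rangeRestrict (g c)), _, rfl, hsm _ (hgs c)⟩ : SClasses p φ.range))
          fun c c' h => ?_
        obtain ⟨z, hz⟩ := isConj_iff.1 (ConjClasses.mk_eq_mk_iff_isConj.1 (congrArg Subtype.val h))
        obtain ⟨w, rfl⟩ := φ.rangeRestrict_surjective z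
        rw [← map_inv, ← map_mul, ← map_mul] at hz
        set y := w * g c * w⁻¹ with hy
        have hk : g c' * y⁻¹ ∈ φ.ker := by
          rw [MonoidHom.mem_ker, map_mul, map_inv]
          exact mul_inv_eq_one.2 (congrArg Subtype.val hz).symm
        have hp' : ∀ u : C, Smooth p u → ¬ p ∣ orderOf u := fun u hu h => lt_irrefl p (hu p hp h)
        obtain ⟨k, hk'⟩ := conj_of_coset hp φ.ker hab hk (hexp _ hk) (y := y)
          (by
            rw [hy, show orderOf (w * g c * w⁻¹) = orderOf (g c) from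
              orderOf_injective (MulAut.conj w).toMonoidHom (MulAut.conj w).injective (g c)]
            exact hp' _ (hgs c))
          (by rw [inv_mul_cancel_right]; exact hp' _ (hgs c'))
        rw [inv_mul_cancel_right] at hk'
        apply Subtype.ext
        rw [← hg c, ← hg c']
        refine ConjClasses.mk_eq_mk_iff_isConj.2 (isConj_iff.2 ⟨k * w, ?_⟩)
        rw [← hk', hy]; group
      have hQ : Nonempty Q := hΩ.map (Quotient.mk _)
      have h2 := IH φ.range Q hQ
      calc (Nat.card (SClasses p C) : ℝ) ≤ Nat.card (SClasses p φ.range) := by exact_mod_cast hinj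
        _ ≤ bnd p ^ (Fintype.card Q - 1) := h2
        _ = bnd p ^ (cyc σ - 1) := by rw [← Nat.card_eq_fintype_card]; rfl
    have hmain : (Nat.card (SClasses (p + 1) G) : ℝ) ≤
        ∑ x : (P : Subgroup G), bnd p ^ (cyc (MulAction.toPerm x : Perm Ω) - 1) := by
      have h := card_sclasses_succ_le (G := G) P
      rw [Nat.card_sigma] at h
      calc (Nat.card (SClasses (p + 1) G) : ℝ)
          ≤ ((∑ x : (P : Subgroup G), Nat.card (SClasses p (Subgroup.centralizer ({(x : G)} : Set G))) : ℕ) : ℝ) := by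
            exact_mod_cast h
        _ ≤ _ := by push_cast; exact Finset.sum_le_sum fun x _ => hterm x
    rcases Nat.lt_or_ge p 3 with h2 | h3
    · -- `p = 2`
      have hp2 : p = 2 := by have := hp.two_le; omega
      subst hp2
      have h1 := (hB 3 le_rfl).1
      have h1' : Nat.card (P : Subgroup G) * 2 ≤ 2 ^ Fintype.card Ω := by
        refine le_trans ?_ h1
        rw [show 2 - 1 = 1 from rfl, pow_one]
        exact Nat.mul_le_mul_left _ (Nat.le_self_pow (by omega) 2)
      have h1'' : (Nat.card (P : Subgroup G) : ℝ) ≤ 2 ^ (Fintype.card Ω - 1) := by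
        have : Nat.card (P : Subgroup G) ≤ 2 ^ (Fintype.card Ω - 1) := by
          refine Nat.le_of_mul_le_mul_right ?_ (show 0 < 2 by norm_num)
          rw [← pow_succ, Nat.sub_add_cancel hd]; exact h1'
        exact_mod_cast this
      calc (Nat.card (SClasses (2 + 1) G) : ℝ) ≤ _ := hmain
        _ = (Nat.card (P : Subgroup G) : ℝ) := by simp [bnd]
        _ ≤ 2 ^ (Fintype.card Ω - 1) := h1''
        _ ≤ bnd (2 + 1) ^ (Fintype.card Ω - 1) := by
          gcongr; rw [show (2 : ℕ) + 1 = 3 from rfl, bnd_three]; norm_num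
    · set a := bnd p with ha
      have ha3 : 3 ≤ a := three_le_bnd h3
      have he := eps_nonneg (p := p) hp.two_le
      have h2 := (hB a ha3).2 h3
      set u := 1 + eps p with hu
      have hu1 : 1 ≤ u := by linarith
      have hsum : (∑ x : (P : Subgroup G), a ^ (cyc (MulAction.toPerm x : Perm Ω) - 1)) * a =
          ∑ x : (P : Subgroup G), a ^ cyc (MulAction.toPerm x : Perm Ω) := by
        rw [Finset.sum_mul]
        refine Finset.sum_congr rfl fun x _ => ?_
        haveI : Nonempty (Quotient (SameCycle.setoid (MulAction.toPerm x : Perm Ω))) :=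
          hΩ.map (Quotient.mk _)
        have : 1 ≤ cyc (MulAction.toPerm x : Perm Ω) := Nat.card_pos
        rw [← pow_succ, Nat.sub_add_cancel this]
      have key : (∑ x : (P : Subgroup G), a ^ (cyc (MulAction.toPerm x : Perm Ω) - 1)) * (a * u) ≤
          (a * u) ^ (Fintype.card Ω - 1) * (a * u) := by
        rw [← pow_succ, Nat.sub_add_cancel hd, ← mul_assoc, hsum]
        refine le_trans ?_ h2
        refine mul_le_mul_of_nonneg_left ?_ (Finset.sum_nonneg fun x _ => by positivity)
        calc u = u ^ 1 := (pow_one u).symm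
          _ ≤ u ^ norb (P : Subgroup G) Ω := pow_le_pow_right₀ hu1 hr
      calc (Nat.card (SClasses (p + 1) G) : ℝ) ≤ _ := hmain
        _ ≤ (a * u) ^ (Fintype.card Ω - 1) := le_of_mul_le_mul_right key (by positivity)
        _ ≤ bnd (p + 1) ^ (Fintype.card Ω - 1) :=
          pow_le_pow_left₀ (by positivity) (bnd_step h3) _

/-- A permutation group of degree `d ≥ 1` has at most `4 ^ (d-1)` conjugacy classes. -/
theorem card_conjClasses_le_four_pow {G Ω : Type} [Group G] [Finite G] [MulAction G Ω]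
    [FaithfulSMul G Ω] [Fintype Ω] (hΩ : Nonempty Ω) :
    Nat.card (ConjClasses G) ≤ 4 ^ (Fintype.card Ω - 1) := by
  set N := Nat.card G + 1
  have h1 : Nat.card (ConjClasses G) ≤ Nat.card (SClasses N G) := by
    refine Nat.card_le_card_of_injective (fun c => ⟨c, ?_⟩) fun a b h => congrArg Subtype.val h
    obtain ⟨g, rfl⟩ := ConjClasses.exists_rep c
    exact ⟨g, rfl, fun q _ hqd => Nat.lt_succ_of_le (Nat.le_of_dvd Nat.card_pos (hqd.trans (orderOf_dvd_natCard g)))⟩
  have h2 := card_sclasses_le N G Ω hΩ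
  have h3 : (Nat.card (ConjClasses G) : ℝ) ≤ (4 : ℝ) ^ (Fintype.card Ω - 1) :=
    le_trans (by exact_mod_cast h1) (h2.trans
      (pow_le_pow_left₀ (by linarith [one_le_bnd N]) (bnd_le_four N) _))
  exact_mod_cast h3

end CfsgLib.Invol.ClassBound
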